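import Groth.Prelude.Def_StCurv2
import Groth.Prelude.Def_AlgSpMor6
import Groth.Agent.KRegLib.Mor
import Groth.Agent.KRegLib.Pres
import Groth.Agent.S8661
import Groth.Agent.S0344
import Groth.Agent.S0341
import Groth.Agent.S0342
import Groth.Agent.Triage.CMMor
import Groth.Agent.MorLib.WeightFlat
import Mathlib

/-!
# Etale local properties of a curve over a field
-/

set_option autoImplicit false
set_option linter.style.haveILetI false
set_option backward.isDefEq.respectTransparency false

universe u

open CategoryTheory CategoryTheory.Limits AlgebraicGeometry IsLocalRing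

namespace Groth.Agent.CurvLocusLib

/-- Smooth morphisms are Koszul. -/
theorem isKoszulAt_of_smooth {X Y : Scheme.{u}} (f : X ⟶ Y) [Smooth f] (x : X) : Synt.IsKoszulAt f x := by
  obtain ⟨V, hV, hxV, -⟩ := exists_isAffineOpen_mem_and_subset (U := ⊤) (x := f x) trivial
  obtain ⟨U, hU, hxU, hUV⟩ := exists_isAffineOpen_mem_and_subset (U := f ⁻¹ᵁ V) (x := x) hxV
  refine KRegLib.isKoszulAt_of_chart f x U hU V hV hUV hxU ?_
  letI : Algebra Γ(Y, V) Γ(X, U) := (f.appLE V U hUV).hom.toAlgebra
  haveI : Algebra.Smooth Γ(Y, V) Γ(X, U) := f.smooth_appLE hV hU hUV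
  exact KRegLib.isLCI_of_smooth

/-- For morphisms of schemes the chart form of lci is the pointwise Koszul condition. -/
theorem isLCIMor_yon_iff {S : Scheme.{u}} {A B : Over S} (f : A ⟶ B) :
    AlgSp.IsLCIMor ((AlgSp.yon S).map f) ↔ ∀ x, Synt.IsKoszulAt f.left x := by
  refine ⟨AlgSp.locP_yon_map, fun hf U V a b h ha hb w => ?_⟩
  obtain ⟨a, rfl⟩ := (AlgSp.yon S).map_surjective a
  obtain ⟨b, rfl⟩ := (AlgSp.yon S).map_surjective b
  rw [AlgSp.repWith_yon_map_iff] at ha hb
  have w' : a ≫ f = h ≫ b := (AlgSp.yon S).map_injective (by rw [Functor.map_comp, Functor.map_comp]; exact w)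
  haveI := ha
  haveI := hb
  refine KRegLib.isKoszulAt_of_comp_smooth h.left b.left fun x => ?_
  rw [← Over.comp_left, ← w', Over.comp_left]
  exact S8661.result _ _ (fun y => isKoszulAt_of_smooth a.left y) hf x

/-- The maximal ideal of a local ring of a scheme étale over a field vanishes. -/
theorem maximalIdeal_eq_bot_of_etale {k : Type u} [Field k] {V : Scheme.{u}}
    (g : V ⟶ Spec (CommRingCat.of k)) [Etale g] (v : V) : maximalIdeal (V.presheaf.stalk v) = ⊥ := by
  have h := MorLib.WT.map_maximalIdeal_stalkMap g v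
  have hf : IsField ((Spec (CommRingCat.of k)).presheaf.stalk (g v)) := by
    haveI : Subsingleton (PrimeSpectrum k) := inferInstance
    let p : Ideal k := (g v).asIdeal
    have hp : p = ⊥ := (Ideal.eq_bot_or_top p).resolve_right (g v).2.ne_top
    exact MulEquiv.isField (Field.toIsField k)
      (IsLocalization.atUnits k p.primeCompl (S := (Spec.structureSheaf k).presheaf.stalk (g v))
        fun x hx => isUnit_iff_ne_zero.mpr fun h0 => hx (h0 ▸ p.zero_mem)).symm.toMulEquiv
  rw [← h, MorLib.WT.fibreIdeal, isField_iff_maximalIdeal_eq.mp hf, Ideal.map_bot]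

/-- Flatness and fibre rings of morphisms into a scheme étale over a field. -/
theorem fibre_of_etale_base {k : Type u} [Field k] {U V : Scheme.{u}} (h : U ⟶ V)
    (g : V ⟶ Spec (CommRingCat.of k)) [Etale g] (u : U) :
    (h.stalkMap u).hom.Flat ∧
      Nonempty (↑(U.presheaf.stalk u) ≃+* ↑((h.fiber (h u)).presheaf.stalk (h.asFiber u))) := by
  have hm := maximalIdeal_eq_bot_of_etale g (h u)
  refine ⟨?_, ?_⟩
  · letI := (isField_iff_maximalIdeal_eq.mpr hm).toField
    letI := (h.stalkMap u).hom.toAlgebra
    exact (inferInstanceAs (Module.Flat (V.presheaf.stalk (h u)) (U.presheaf.stalk u)))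
  · obtain ⟨e⟩ := Triage.CMMor.exists_equiv_fibre_stalk h u
    exact ⟨(((Ideal.quotEquivOfEq (by rw [hm, Ideal.map_bot])).trans (RingEquiv.quotientBot _)).symm).trans e⟩

/-- Transfer of Gorenstein and Cohen-Macaulay local rings along étale maps. -/
theorem cm_gor_of_etale {U X : Scheme.{u}} (a : U ⟶ X) [Etale a] [IsLocallyNoetherian X] (u : U) :
    (LocCoh.IsCohenMacaulayLocalRing (X.presheaf.stalk (a u)) →
      LocCoh.IsCohenMacaulayLocalRing (U.presheaf.stalk u)) ∧
    (LocCoh.IsGorensteinLocalRing (X.presheaf.stalk (a u)) →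
      LocCoh.IsGorensteinLocalRing (U.presheaf.stalk u)) := by
  haveI : IsLocallyNoetherian U := LocallyOfFiniteType.isLocallyNoetherian a
  letI := (a.stalkMap u).hom.toAlgebra
  haveI : IsLocalHom (algebraMap (X.presheaf.stalk (a u)) (U.presheaf.stalk u)) :=
    inferInstanceAs <| IsLocalHom (a.stalkMap u).hom
  haveI : Module.Flat (X.presheaf.stalk (a u)) (U.presheaf.stalk u) := Flat.stalkMap a u
  have hm : (maximalIdeal (X.presheaf.stalk (a u))).map (algebraMap (X.presheaf.stalk (a u)) (U.presheaf.stalk u)) =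
      maximalIdeal (U.presheaf.stalk u) := MorLib.WT.map_maximalIdeal_stalkMap a u
  have hF : IsField (↑(U.presheaf.stalk u) ⧸ (maximalIdeal (X.presheaf.stalk (a u))).map
      (algebraMap (X.presheaf.stalk (a u)) (U.presheaf.stalk u))) := by
    rw [← Ideal.Quotient.maximal_ideal_iff_isField_quotient, hm]
    infer_instance
  letI := hF.toField
  haveI := S0342.result (↑(U.presheaf.stalk u) ⧸ (maximalIdeal (X.presheaf.stalk (a u))).map
    (algebraMap (X.presheaf.stalk (a u)) (U.presheaf.stalk u)))
  exact ⟨fun hh => (Triage.CMMor.isCM_iff _ _).mpr ⟨hh, S0341.result _⟩,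
    fun hh => (S0344.result _ _).mpr ⟨hh, ‹_›⟩⟩

/-- Gorenstein local rings are stable under ring isomorphisms. -/
theorem gor_of_equiv {R S : Type u} [CommRing R] [CommRing S] (e : R ≃+* S)
    (h : LocCoh.IsGorensteinLocalRing R) : LocCoh.IsGorensteinLocalRing S := by
  haveI := h
  haveI : IsLocalRing S := e.isLocalRing
  haveI : IsNoetherianRing R := inferInstance
  haveI : IsNoetherianRing S := isNoetherianRing_of_ringEquiv R e
  letI := e.toRingHom.toAlgebra
  haveI : IsLocalHom (algebraMap R S) := ⟨fun x hx => (isUnit_map_iff e x).mp hx⟩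
  haveI : Module.Flat R S := RingHom.Flat.of_bijective (f := algebraMap R S) e.bijective
  have hm : (maximalIdeal R).map (algebraMap R S) = maximalIdeal S :=
    IsLocalRing.map_maximalIdeal_of_surjective (algebraMap R S) e.surjective
  have hF : IsField (S ⧸ (maximalIdeal R).map (algebraMap R S)) := by
    rw [← Ideal.Quotient.maximal_ideal_iff_isField_quotient, hm]
    infer_instance
  letI := hF.toField
  exact (S0344.result R S).mpr ⟨h, S0342.result _⟩

end Groth.Agent.CurvLocusLib
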