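import Groth.Prelude.Def_StCurv2
import Groth.Agent.FBaseLib.Basic
import Groth.Agent.FibDim.BaseField
import Groth.Agent.MorLib.SmoothLocus
import Mathlib

/-!
# Geometric fibres of representable families over a field
-/

set_option autoImplicit false
set_option linter.style.haveILetI false

universe u

open CategoryTheory CategoryTheory.Limits AlgebraicGeometry

namespace Groth.Agent.CurvLocusLib

/-- Geometric fibres of a representable family are the scheme-theoretic ones. -/
theorem geomFib_iff {S : Scheme.{u}} (T : Over S) {X : Scheme.{u}} (p : X ⟶ T.left)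
    (Q : ∀ (Ω : Type u) [Field Ω] [IsAlgClosed Ω] (X' : Scheme.{u}), (X' ⟶ Spec (CommRingCat.of Ω)) → Prop) :
    CurvSt.GeomFib (fun Ω _ _ X' q _ => Q Ω X' q)
        ((CurvSt.toSpFam S 0).obj ⟨T, X, p, Fin.elim0, fun i => i.elim0⟩) ↔
      ∀ (Ω : Type u) [Field Ω] [IsAlgClosed Ω] (τ : Spec (CommRingCat.of Ω) ⟶ T.left) (X' : Scheme.{u})
        (q : X' ⟶ Spec (CommRingCat.of Ω)) (g : X' ⟶ X), IsPullback g q p τ → Q Ω X' q := by
  let A : CurvSt.PtFamObj S 0 := ⟨T, X, p, Fin.elim0, fun i => i.elim0⟩
  let B := (CurvSt.toSpFam S 0).obj A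
  constructor
  · intro h Ω _ _ τ X' q g hg
    let g' : B.ptOver (q ≫ τ) ⟶ A.totOver := Over.homMk g (by
      show g ≫ p ≫ T.hom = (q ≫ τ) ≫ T.hom
      rw [← Category.assoc, hg.w])
    have hw : g' ≫ A.fOver = B.fibHom τ q ≫ B.ptHom τ := Over.OverMorphism.ext hg.w
    have hsq : IsPullback g' (B.fibHom τ q) A.fOver (B.ptHom τ) := IsPullback.of_map (Over.forget S) hw hg
    exact h Ω τ X' q ((AlgSp.yon S).map g') (hsq.map (AlgSp.yon S))
  · intro h Ω _ _ τ X' q i hi
    let g' : B.ptOver (q ≫ τ) ⟶ A.totOver := (AlgSp.yon S).preimage i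
    have hi' : (AlgSp.yon S).map g' = i := (AlgSp.yon S).map_preimage i
    have hsq : IsPullback g' (B.fibHom τ q) A.fOver (B.ptHom τ) := by
      refine IsPullback.of_map (AlgSp.yon S) ((AlgSp.yon S).map_injective ?_) ?_
      · exact (Functor.map_comp ..).trans ((congrArg (· ≫ _) hi').trans (hi.w.trans (Functor.map_comp ..).symm))
      · rw [hi']
        exact hi
    exact h Ω τ X' q g'.left (hsq.map (Over.forget S))

/-- The point over an algebraic closure. -/
noncomputable def closPt (K : Type u) [Field K] : Spec (CommRingCat.of (AlgebraicClosure K)) ⟶ Spec (CommRingCat.of K) :=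
  Spec.map (CommRingCat.ofHom (algebraMap K (AlgebraicClosure K)))

instance surjective_closPt (K : Type u) [Field K] : Surjective (closPt K) :=
  ⟨fun x => ⟨IsLocalRing.closedPoint (AlgebraicClosure K), Subsingleton.elim (α := PrimeSpectrum K) _ x⟩⟩

instance flat_closPt (K : Type u) [Field K] : Flat (closPt K) := by
  rw [closPt, HasRingHomProperty.Spec_iff (P := @Flat), CommRingCat.hom_ofHom, RingHom.flat_algebraMap_iff]
  infer_instance

/-- A property descending along flat surjections holds geometrically once it holds over algebraically closed fields. -/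
theorem geometrically_of_algClosed {P : ObjectProperty Scheme.{u}}
    (hP : ∀ {Z W : Scheme.{u}} (q : Z ⟶ W) [Flat q] [Surjective q], P Z → P W) {X Y : Scheme.{u}} (f : X ⟶ Y)
    (h : ∀ (Ω : Type u) [Field Ω] [IsAlgClosed Ω] (τ : Spec (CommRingCat.of Ω) ⟶ Y) (X' : Scheme.{u})
      (q : X' ⟶ Spec (CommRingCat.of Ω)) (g : X' ⟶ X), IsPullback g q f τ → P X') :
    geometrically P f := by
  intro K _ y Z g q hg
  let s := closPt K
  haveI : Flat (pullback.fst q s) := inferInstance
  haveI : Surjective (pullback.fst q s) := inferInstance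
  exact hP (pullback.fst q s) (h (AlgebraicClosure K) (s ≫ y) _ (pullback.snd q s) (pullback.fst q s ≫ g)
    ((IsPullback.of_hasPullback q s).paste_horiz hg))

/-- A geometric property restricts to fibres over algebraically closed fields. -/
theorem of_geometrically {P : ObjectProperty Scheme.{u}} {X Y : Scheme.{u}} (f : X ⟶ Y) (h : geometrically P f)
    (Ω : Type u) [Field Ω] (τ : Spec (CommRingCat.of Ω) ⟶ Y) (X' : Scheme.{u}) (q : X' ⟶ Spec (CommRingCat.of Ω))
    (g : X' ⟶ X) (hg : IsPullback g q f τ) : P X' :=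
  h τ g q hg

/-- The non-smooth set is the complement of the smooth locus. -/
theorem setOf_not_smooth_nhd {X Y : Scheme.{u}} (f : X ⟶ Y) [LocallyOfFinitePresentation f] :
    {x : X | ¬ ∃ U : X.Opens, x ∈ U ∧ Smooth (U.ι ≫ f)} = (f.smoothLocus : Set X)ᶜ := by
  ext x
  refine not_congr ⟨fun ⟨U, hx, hU⟩ => ?_, fun hx => ⟨f.smoothLocus, hx, ?_⟩⟩
  · haveI := hU
    have h : (⟨x, hx⟩ : U) ∈ (U.ι ≫ f).smoothLocus := by rw [Scheme.Hom.smoothLocus_eq_top]; trivial
    rw [← Scheme.Hom.preimage_smoothLocus_eq] at h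
    exact h
  · rw [← Scheme.Hom.smoothLocus_eq_top_iff, ← Scheme.Hom.preimage_smoothLocus_eq]
    exact Scheme.Opens.ι_preimage_self _

/-- Finiteness of a closed set of points is insensitive to extension of the base field. -/
theorem finite_preimage_iff {k Ω : Type u} [Field k] [Field Ω] {X X' : Scheme.{u}}
    (p : X ⟶ Spec (CommRingCat.of k)) [LocallyOfFiniteType p] (τ : Spec (CommRingCat.of Ω) ⟶ Spec (CommRingCat.of k))
    (q : X' ⟶ Spec (CommRingCat.of Ω)) (g : X' ⟶ X) (hc : IsPullback g q p τ) {Z : Set X} (hZ : IsClosed Z) :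
    (g ⁻¹' Z).Finite ↔ Z.Finite := by
  haveI : Surjective τ := ⟨fun x => ⟨IsLocalRing.closedPoint Ω, Subsingleton.elim (α := PrimeSpectrum k) _ x⟩⟩
  haveI : Surjective g := MorphismProperty.of_isPullback hc.flip ‹Surjective τ›
  refine ⟨fun h => Set.Finite.of_finite_image (f := fun x => x) (by
    rw [Set.image_id', ← Set.image_preimage_eq Z g.surjective]
    exact h.image g) fun _ _ _ _ e => e, fun h => ?_⟩
  haveI : JacobsonSpace X := LocallyOfFiniteType.jacobsonSpace p
  have hclosed : ∀ x ∈ Z, IsClosed ({x} : Set X) := by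
    have h1 : IsClosed (Z ∩ closedPoints X) := by
      rw [← Set.biUnion_of_singleton (Z ∩ closedPoints X)]
      exact (h.subset Set.inter_subset_left).isClosed_biUnion fun x hx => hx.2
    have h2 := JacobsonSpace.closure_inter_closedPoints hZ
    rw [h1.closure_eq] at h2
    intro x hx
    exact ((h2.symm ▸ hx : x ∈ Z ∩ closedPoints X)).2
  rw [← Set.biUnion_of_singleton Z, Set.preimage_iUnion₂]
  refine h.biUnion fun x hx => ?_
  haveI : IsClosedImmersion (X.fromSpecResidueField x) := isClosed_singleton_iff_isClosedImmersion.mp (hclosed x hx)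
  haveI : IsFinite (X.fromSpecResidueField x ≫ p) :=
    isFinite_iff_locallyOfFiniteType_of_jacobsonSpace.mpr inferInstance
  have hpb := (IsPullback.of_hasPullback g (X.fromSpecResidueField x)).flip.paste_vert hc
  haveI : IsFinite (pullback.fst g (X.fromSpecResidueField x) ≫ q) := by
    first
    | exact MorphismProperty.of_isPullback hpb.flip ‹IsFinite (X.fromSpecResidueField x ≫ p)›
    | exact MorphismProperty.of_isPullback hpb ‹IsFinite (X.fromSpecResidueField x ≫ p)›
  rw [← Scheme.range_fromSpecResidueField, ← Scheme.Pullback.range_fst]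
  haveI : Finite ↥(pullback g (X.fromSpecResidueField x)) := by
    refine Set.finite_univ_iff.mp ?_
    have := (pullback.fst g (X.fromSpecResidueField x) ≫ q).finite_preimage_singleton (IsLocalRing.closedPoint Ω)
    refine this.subset fun z _ => Subsingleton.elim (α := PrimeSpectrum Ω) _ _
  exact Set.finite_range _

end Groth.Agent.CurvLocusLib
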